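import Cfsg.Agent.Mrg.Omega.Half.Basic
import Cfsg.Agent.Mrg.Omega.NOne.LemmaT
import Cfsg.Agent.Mrg.Omega.NO1.Types
import Cfsg.Agent.Mrg.Omega.S5.Syl
import Cfsg.Agent.Mrg.Omega.Node.NO1

-- merged: Cfsg.Agent.Mrg.Omega.NO1.Sym.Frame
section

section


/-!
# Sums of even-subset modules: the frame (project OMEGA, N1, `SymAll`)

* `mem_of_pairs` : the vectors of `V` are products of pairs `{p, q}`;
* `const_mem_D` : in a frame at `v = {(i,0), a}` every vector which is constant on the points `(j, x)`, `x ≠ 0`, of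
  every block and zero at the points `(j, 0)`, lies in `D`.
-/

set_option autoImplicit false

namespace Cfsg.Agent.Omega.NO1.Sym

open Subgroup Cfsg Cfsg.Agent.ZN Cfsg.Agent.Omega.FFThm Cfsg.Agent.Omega.Half
open Cfsg.Agent.Omega.NOne.NearFF

universe u

variable {G : Type u} [Group G] {T H V : Subgroup G} {k m : ℕ}

section pairs

variable (M : SymK T H V ⊥ k m)

theorem ne_zero_iff (a : ZMod 2) : a ≠ 0 ↔ a = 1 := by
  revert a
  decide

/-- `u` has the coordinates of the pair `{p, q}`. -/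
def IsPair (p q : Pt k m) (u : G) : Prop := u ∈ V ∧ ∀ r, co M u r = if r = p ∨ r = q then 1 else 0

variable {M}

theorem IsPair.symm {p q : Pt k m} {u : G} (h : IsPair M p q u) : IsPair M q p u :=
  ⟨h.1, fun r => by rw [h.2]; simp only [or_comm]⟩

theorem IsPair.conj {p q : Pt k m} {u : G} (h : IsPair M p q u) (hA : Amb T H V) {g : G} (hg : g ∈ H) :
    IsPair M (rp M g p) (rp M g q) (g * u * g⁻¹) := by
  refine ⟨hA.conj_mem hg h.1, fun r => ?_⟩
  obtain ⟨s, rfl⟩ := (rp M g).surjective r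
  rw [co_rp M hg h.1, h.2]
  simp only [(rp M g).injective.eq_iff]

theorem IsPair.unique {p q : Pt k m} {u u' : G} (h : IsPair M p q u) (h' : IsPair M p q u') : u = u' :=
  ext_co M h.1 h'.1 fun r => by rw [h.2, h'.2]

variable (M)

/-- Every vector is a product of pairs of points of its support. -/
theorem mem_of_pairs {E : Subgroup G} {Good : Pt k m → Prop}
    (hE : ∀ p q : Pt k m, p.1 = q.1 → p ≠ q → Good p → Good q → ∀ u, IsPair M p q u → u ∈ E)
    {w : G} (hw : w ∈ V) (hg : ∀ p, co M w p ≠ 0 → Good p) : w ∈ E := by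
  classical
  suffices key : ∀ n : ℕ, ∀ w ∈ V, (Finset.univ.filter fun p => co M w p ≠ 0).card = n →
      (∀ p, co M w p ≠ 0 → Good p) → w ∈ E from key _ w hw rfl hg
  intro n
  induction n using Nat.strong_induction_on with
  | _ n ih =>
    intro w hw hn hg
    by_cases h0 : ∀ p, co M w p = 0
    · rw [eq_one_of_co M hw h0]
      exact one_mem E
    · push Not at h0
      obtain ⟨p, hp⟩ := h0
      have hq : ∃ q : Pt k m, q.1 = p.1 ∧ q ≠ p ∧ co M w q ≠ 0 := by
        by_contra hcon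
        push Not at hcon
        have h1 := sum_co M hw p.1
        rw [Finset.sum_eq_single p.2 (fun x _ hx => hcon (p.1, x) rfl fun h => hx (congrArg Prod.snd h))
          fun h => absurd (Finset.mem_univ _) h] at h1
        exact hp h1
      obtain ⟨q, hq1, hq2, hq3⟩ := hq
      obtain ⟨u, hu, hu'⟩ := exists_pair M hq1.symm (Ne.symm hq2)
      have huE : u ∈ E := hE p q hq1.symm (Ne.symm hq2) (hg p hp) (hg q hq3) u ⟨hu, hu'⟩
      have hco : ∀ r, co M (w * u) r ≠ 0 ↔ (co M w r ≠ 0 ∧ r ≠ p ∧ r ≠ q) := by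
        intro r
        rw [co_mul M hw hu, hu']
        by_cases hr : r = p ∨ r = q
        · rw [if_pos hr]
          have h1 : co M w r = 1 := by
            rcases hr with rfl | rfl
            · exact (ne_zero_iff _).1 hp
            · exact (ne_zero_iff _).1 hq3
          rw [h1, CharTwo.add_self_eq_zero]
          refine iff_of_false (fun h => h rfl) ?_
          rintro ⟨-, h2, h3⟩
          exact hr.elim h2 h3
        · rw [if_neg hr, add_zero]
          rw [not_or] at hr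
          exact ⟨fun h => ⟨h, hr.1, hr.2⟩, fun h => h.1⟩
      have h2 : w * u ∈ E := by
        refine ih _ ?_ (w * u) (mul_mem hw hu) rfl fun r hr => hg r ((hco r).1 hr).1
        rw [← hn]
        refine Finset.card_lt_card ?_
        rw [Finset.ssubset_iff_of_subset]
        · refine ⟨p, ?_, ?_⟩
          · rw [Finset.mem_filter]
            exact ⟨Finset.mem_univ _, hp⟩
          · rw [Finset.mem_filter, hco]
            exact fun h => h.2.2.1 rfl
        · intro r hr
          rw [Finset.mem_filter] at hr ⊢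
          exact ⟨hr.1, ((hco r).1 hr.2).1⟩
      have h3 : w = w * u * u⁻¹ := by group
      rw [h3]
      exact mul_mem h2 (inv_mem huE)

end pairs

variable {M : SymK T H V ⊥ k m} {hm : 2 ≤ m} {hA : Amb T H V} {Q : Subgroup G}

namespace QSit

variable (h : QSit M hm hA Q)
include h

theorem invol' {q : G} (hq : q ∈ Q) (p : Pt k m) : rp M q (rp M q p) = p := by
  by_cases hp : p.2 = 0
  · rw [h.fix_zero hq hp, h.fix_zero hq hp]
  · exact h.invol hq hp

/-- Coordinates of commutators. -/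
theorem co_c {u f : G} (hu : u ∈ V) (hf : f ∈ Q) (r : Pt k m) :
    co M (c u f) r = co M u r + co M u (rp M f r) := by
  have hfH := h.Q_le_H hf
  have h1 : f * u * f⁻¹ ∈ V := hA.conj_mem hfH hu
  have e : c u f = u * (f * u * f⁻¹)⁻¹ := by rw [c]; group
  rw [e, co_mul M hu (inv_mem h1), co_inv M h1]
  have h2 := co_rp M hfH hu (rp M f r)
  rw [h.invol' hf] at h2
  rw [h2]

/-- `[v, f]` for `v = {(i,0), a}` -/
theorem co_c_pair {z a : Pt k m} (hz : z.2 = 0) {v f : G} (hv : IsPair M z a v) (hza : z ≠ a) (hf : f ∈ Q)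
    (r : Pt k m) : co M (c v f) r = (if r = a then 1 else 0) + (if r = rp M f a then 1 else 0) := by
  rw [h.co_c hv.1 hf, hv.2, hv.2]
  have e1 : rp M f r = z ↔ r = z := by
    constructor
    · intro h1
      rw [← h.invol' hf r, h1, h.fix_zero hf hz]
    · rintro rfl
      exact h.fix_zero hf hz
  have e2 : rp M f r = a ↔ r = rp M f a := by
    constructor
    · intro h1
      rw [← h1, h.invol' hf]
    · rintro rfl
      exact h.invol' hf a
  simp only [e1, e2]
  by_cases h1 : r = z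
  · have h2 : r ≠ a := fun h2 => hza (h1.symm.trans h2)
    have h3 : r ≠ rp M f a := by
      intro h3
      apply h2
      rw [h1] at h3 ⊢
      rw [← h.invol' hf a, ← h3, h.fix_zero hf hz]
    rw [if_pos (Or.inl h1), if_pos (Or.inl h1), if_neg h2, if_neg h3, add_zero, CharTwo.add_self_eq_zero]
  · simp only [h1, false_or]

/-- **The frame at `v = {(i,0), a}`**: `D` contains all vectors constant on the blocks. -/
theorem const_mem_D [Finite G] {z a : Pt k m} (hz : z.2 = 0) (hza1 : z.1 = a.1) (ha : a.2 ≠ 0) {v : G}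
    (hv : IsPair M z a v) {D F : Subgroup G} (hn : Near V (V ⊓ Q) D F v) (hFQ : F ≤ Q) (hne : D ≠ V ⊓ Q)
    (hpairs : ∀ p q : Pt k m, p.1 = q.1 → p.2 ≠ 0 → q.2 ≠ 0 → p ≠ q → ∀ u, IsPair M p q u → u ∈ V ⊓ Q)
    {w : G} (hw : w ∈ V) (hw0 : ∀ p : Pt k m, p.2 = 0 → co M w p = 0)
    (hwc : ∀ p q : Pt k m, p.1 = q.1 → p.2 ≠ 0 → q.2 ≠ 0 → co M w p = co M w q) : w ∈ D := by
  classical
  have h5 := five_le hm
  have hza : z ≠ a := fun h => ha (by rw [← h]; exact hz)
  have pick : ∀ (i : Fin k) (x y : Fin (2 ^ m + 1)), ∃ p : Pt k m, p.1 = i ∧ p.2 ≠ 0 ∧ p.2 ≠ x ∧ p.2 ≠ y := by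
    intro i x y
    have hc : ({0, x, y} : Finset (Fin (2 ^ m + 1))).card < (Finset.univ : Finset (Fin (2 ^ m + 1))).card := by
      rw [Finset.card_univ, Fintype.card_fin]
      exact lt_of_le_of_lt Finset.card_le_three (by omega)
    obtain ⟨y', -, hy⟩ := Finset.exists_mem_notMem_of_card_lt_card hc
    simp only [Finset.mem_insert, Finset.mem_singleton, not_or] at hy
    exact ⟨(i, y'), rfl, hy.1, hy.2.1, hy.2.2⟩
  -- elements of `D` are fixed by `F`
  have hDfix : ∀ d ∈ D, ∀ f ∈ F, ∀ p, co M d (rp M f p) = co M d p := by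
    intro d hd f hf p
    have h1 := co_rp M (h.Q_le_H (hFQ hf)) (hn.DV hd) p
    have h2 : f * d * f⁻¹ = d := by rw [← hn.Dcent hd hf, mul_inv_cancel_right]
    rwa [h2] at h1
  -- `F` is not trivial on `a`
  have hF1 : ∃ f ∈ F, rp M f a ≠ a := by
    by_contra hcon
    push Not at hcon
    apply hne
    refine le_antisymm hn.DE fun e he => ?_
    obtain ⟨f, hf, hd⟩ := hn.surj he
    have h1 : c v f = 1 := by
      refine eq_one_of_co M (hn.c_memV hn.vV hf) fun r => ?_
      rw [h.co_c_pair hz hv hza (hFQ hf), hcon f hf, CharTwo.add_self_eq_zero]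
    rw [h1, one_mul] at hd
    exact inv_mem_iff.1 hd
  -- there are two different images
  have hF2 : ∀ b : Pt k m, ∃ f ∈ F, rp M f a ≠ a ∧ rp M f a ≠ b := by
    intro b
    by_contra hcon
    push Not at hcon
    obtain ⟨f1, hf1, h1⟩ := hF1
    have h1b : rp M f1 a = b := hcon f1 hf1 h1
    have hb1 : b.1 = a.1 := by rw [← h1b]; exact h.fst_eq (hFQ hf1) a
    have hb2 : b.2 ≠ 0 := by rw [← h1b]; exact h.snd_ne (hFQ hf1) ha
    obtain ⟨x, hx1, hx0, hxa, hxb⟩ := pick a.1 a.2 b.2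
    have hxa' : x ≠ a := fun h => hxa (congrArg Prod.snd h)
    have hxb' : x ≠ b := fun h => hxb (congrArg Prod.snd h)
    obtain ⟨e, he, he'⟩ := exists_pair M hx1.symm (Ne.symm hxa')
    have heE : e ∈ V ⊓ Q := hpairs a x hx1.symm ha hx0 (Ne.symm hxa') e ⟨he, he'⟩
    obtain ⟨f', hf', hd⟩ := hn.surj heE
    have hco : ∀ r, co M (c v f' * e⁻¹) r = ((if r = a then 1 else 0) + (if r = rp M f' a then 1 else 0)) +
        (if r = a ∨ r = x then 1 else 0) := by
      intro r
      rw [co_mul M (hn.c_memV hn.vV hf') (inv_mem he), co_inv M he, he', h.co_c_pair hz hv hza (hFQ hf')]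
    have h2 := hDfix _ hd f1 hf1 a
    rw [h1b, hco, hco] at h2
    have hab : a ≠ b := fun h2 => h1 (h1b.trans h2.symm)
    by_cases h3 : rp M f' a = a
    · rw [h3] at h2
      simp only [if_true, if_neg (Ne.symm hab), true_or, Ne.symm hab, Ne.symm hxb', or_self, if_false, zero_add,
        CharTwo.add_self_eq_zero] at h2
      exact zero_ne_one h2
    · have h4 : rp M f' a = b := hcon f' hf' h3
      rw [h4] at h2
      simp only [if_true, if_neg (Ne.symm hab), true_or, Ne.symm hab, Ne.symm hxb', hab, or_self, if_false, zero_add,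
        add_zero, CharTwo.add_self_eq_zero] at h2
      exact one_ne_zero h2
  -- the end
  have hwE : w ∈ V ⊓ Q := by
    refine mem_of_pairs M (Good := fun p => p.2 ≠ 0) (fun p q h1 h2 h3 h4 u hu => hpairs p q h1 h3 h4 h2 u hu) hw ?_
    intro p hp h0
    exact hp (hw0 p h0)
  obtain ⟨f, hf, hd⟩ := hn.surj hwE
  by_cases h1 : rp M f a = a
  · have h2 : c v f = 1 := by
      refine eq_one_of_co M (hn.c_memV hn.vV hf) fun r => ?_
      rw [h.co_c_pair hz hv hza (hFQ hf), h1, CharTwo.add_self_eq_zero]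
    rw [h2, one_mul] at hd
    exact inv_mem_iff.1 hd
  · exfalso
    obtain ⟨f', hf', h2, h3⟩ := hF2 (rp M f a)
    have h4 := hDfix _ hd f' hf' a
    have hco : ∀ r, co M (c v f * w⁻¹) r = ((if r = a then 1 else 0) + (if r = rp M f a then 1 else 0)) +
        co M w r := by
      intro r
      rw [co_mul M (hn.c_memV hn.vV hf) (inv_mem hw), co_inv M hw, h.co_c_pair hz hv hza (hFQ hf)]
    rw [hco, hco, if_neg h2, if_neg h3, if_pos rfl, if_neg (Ne.symm h1), add_zero, zero_add,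
      hwc _ a (h.fst_eq (hFQ hf') a) (h.snd_ne (hFQ hf') ha) ha, add_zero] at h4
    exact one_ne_zero (right_eq_add.1 h4)

end QSit

end Cfsg.Agent.Omega.NO1.Sym

end

section


/-!
# N1, sums of even-subset modules: `E`, and the frame at a pair (project OMEGA, N1, `SymAll`)

* `pair_mem` : all pairs of points `(i, x), (i, y)`, `x, y ≠ 0`, lie in `E = V ∩ Q`, and `m = 2`;
* `exists_v` : some pair `v = {(i, 0), a}` is not in `Q`;
* `not_mem_of_frame` : `v ∉ R` for every 2-group `R` normalised by `X` in a frame at `v`;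
* `not_mem_o2` : `v ∉ O₂(C_G(w))` for every vector `w` which is constant on the points `(j, x)`, `x ≠ 0`, of every
  block and zero at the points `(j, 0)`.
-/

set_option autoImplicit false

namespace Cfsg.Agent.Omega.NO1.Sym

open Subgroup Cfsg Cfsg.Agent.ZN Cfsg.Agent.Omega.FFThm Cfsg.Agent.Omega.Half Cfsg.Agent.Omega.NO1
open Cfsg.Agent.Omega.NOne.NearFF
open Cfsg.Agent.Omega.NoFF.LinesPlug (CC)
open Cfsg.Agent.MinSimple.VModule (o2_isPGroup)
open scoped Pointwise

universe u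

section generic

variable {G : Type u} [Group G]

theorem conj_mem_smul {g x : G} {A : Subgroup G} (h : x ∈ A) : g * x * g⁻¹ ∈ MulAut.conj g • A :=
  NOne.Frame.conj_mem h

theorem le_normalizer_sup {K A B : Subgroup G} (hA : K ≤ normalizer (A : Set G))
    (hB : K ≤ normalizer (B : Set G)) : K ≤ normalizer ((A ⊔ B : Subgroup G) : Set G) := by
  have key : ∀ x ∈ K, MulAut.conj x • (A ⊔ B) ≤ A ⊔ B := by
    intro x hx
    rw [Subgroup.smul_sup]
    refine sup_le_sup ?_ ?_
    · intro y hy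
      obtain ⟨z, hz, rfl⟩ := NOne.Frame.mem_conj'.1 hy
      exact (mem_normalizer_iff.1 (hA hx) z).1 hz
    · intro y hy
      obtain ⟨z, hz, rfl⟩ := NOne.Frame.mem_conj'.1 hy
      exact (mem_normalizer_iff.1 (hB hx) z).1 hz
  intro x hx
  rw [mem_normalizer_iff]
  intro y
  refine ⟨fun hy => key x hx (conj_mem_smul hy), fun hy => ?_⟩
  have := key x⁻¹ (inv_mem hx) (conj_mem_smul hy)
  have e : x⁻¹ * (x * y * x⁻¹) * x⁻¹⁻¹ = y := by group
  rwa [e] at this

/-- `v ∉ R` if `R` is a 2-group normalised by the non-2-group `X` of a frame at `v`. -/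
theorem not_mem_of_frame {V Q R : Subgroup G} {v g : G} (hfr : NOne.Frame.Fr (V1 V Q v) Q g)
    (hX : ¬ IsPGroup 2 (NOne.Frame.X (V1 V Q v) g)) (hQ : IsPGroup 2 Q) (hR : IsPGroup 2 R)
    (hXR : NOne.Frame.X (V1 V Q v) g ≤ normalizer (R : Set G)) : v ∉ R := by
  intro hv
  apply hX
  set X := NOne.Frame.X (V1 V Q v) g with hXdef
  set W := NOne.Frame.W (V1 V Q v) Q g with hWdef
  have hWX : W ≤ X := sup_le (inf_le_left.trans le_sup_left)
    ((NOne.Frame.Fr.E'_le_V').trans le_sup_right)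
  have hW2 : IsPGroup 2 W := hQ.to_le hfr.W_le_Q
  have hXRX : X ≤ normalizer ((R ⊓ X : Subgroup G) : Set G) := by
    intro x hx
    have h1 := mem_normalizer_iff.1 (hXR hx)
    have h2 : x ∈ normalizer (X : Set G) := le_normalizer hx
    have h3 := mem_normalizer_iff.1 h2
    rw [mem_normalizer_iff]
    exact fun y => and_congr (h1 y) (h3 y)
  have hRX2 : IsPGroup 2 (R ⊓ X : Subgroup G) := hR.to_le inf_le_left
  have hN2 : IsPGroup 2 (W ⊔ (R ⊓ X) : Subgroup G) := hW2.to_sup_of_normal_right' hRX2 (hWX.trans hXRX)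
  have hXN : X ≤ normalizer ((W ⊔ (R ⊓ X) : Subgroup G) : Set G) := le_normalizer_sup hfr.X_norm_W hXRX
  have hvV : v ∈ V1 V Q v := mem_sup_right (mem_zpowers v)
  have hvX : v ∈ X := mem_sup_left hvV
  have hv' : g * v * g⁻¹ ∈ X := mem_sup_right (conj_mem_smul hvV)
  have hz2 : IsPGroup 2 (zpowers (g * v * g⁻¹)) := by
    have h1 : IsPGroup 2 (MulAut.conj g • R : Subgroup G) := hR.map _
    exact h1.to_le (zpowers_le.2 (conj_mem_smul hv))
  have hfin : IsPGroup 2 (zpowers (g * v * g⁻¹) ⊔ (W ⊔ (R ⊓ X)) : Subgroup G) :=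
    hz2.to_sup_of_normal_right' hN2 (zpowers_le.2 (hXN hv'))
  refine hfin.to_le ?_
  have e1 : V ⊓ Q ≤ W := by
    refine le_trans ?_ le_sup_left
    exact le_inf le_sup_left inf_le_right
  have e2 : MulAut.conj g • (V ⊓ Q) ≤ W := by
    refine le_trans ?_ le_sup_right
    intro y hy
    obtain ⟨z, hz, rfl⟩ := NOne.Frame.mem_conj'.1 hy
    exact conj_mem_smul ⟨mem_sup_left hz, hz.2⟩
  have hWf : W ≤ zpowers (g * v * g⁻¹) ⊔ (W ⊔ (R ⊓ X)) := le_trans le_sup_left le_sup_right
  refine sup_le (sup_le (e1.trans hWf) (zpowers_le.2 ?_)) ?_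
  · exact mem_sup_right (mem_sup_right ⟨hv, hvX⟩)
  · have e3 : MulAut.conj g • (V1 V Q v) = MulAut.conj g • (V ⊓ Q) ⊔ MulAut.conj g • zpowers v :=
      Subgroup.smul_sup _ _ _
    rw [e3]
    refine sup_le (e2.trans hWf) ?_
    intro y hy
    obtain ⟨z, hz, rfl⟩ := NOne.Frame.mem_conj'.1 hy
    obtain ⟨n, rfl⟩ := mem_zpowers_iff.1 hz
    refine mem_sup_left ?_
    rw [← conj_zpow]
    exact zpow_mem (mem_zpowers _) n

end generic

variable {G : Type u} [Group G] [Finite G] {S : Sylow 2 G} {P : Subgroup G} (h : Cfg S P) {k m : ℕ}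
variable (M : SymK (S : Subgroup G) P (zl (S : Subgroup G) P) ⊥ k m) (hm : 2 ≤ m)

theorem amb {S : Sylow 2 G} {P : Subgroup G} (h : Cfg S P) :
    Amb (S : Subgroup G) P (zl (S : Subgroup G) P) := amb_of_loc h.ctx.char2 S h.loc

include h in
theorem H0_le_CC : H0 M (by omega) (amb h) ≤ CC (S : Subgroup G) := by
  intro g hg
  refine mem_centralizer_iff.2 fun w hw => ?_
  exact (H0_comm M (by omega) (amb h) S.isPGroup' (MinSimple.Basic.not_dvd_relIndex S h.S_le) hw hg).symm

theorem qsit : QSit M hm (amb h) (o2 (CC (S : Subgroup G))) where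
  le := h.Q_le_S
  two := S.isPGroup'
  norm g hg q hq := (mem_normalizer_iff.1 (le_normalizer_o2 _ (H0_le_CC h M hm hg)) q).1 hq

include h hm in
/-- `Q` does not centralise `V`. -/
theorem exists_moved : ∃ q ∈ o2 (CC (S : Subgroup G)), ∃ p, rp M q p ≠ p := by
  by_contra hcon
  push Not at hcon
  apply h.one.not_le
  intro v hv
  refine h.char2C ⟨h.V_le_CC hv, mem_centralizer_iff.2 fun q hq => ?_⟩
  have h1 : rp M q = 1 := Equiv.ext fun p => hcon q hq p
  exact (rp_eq_one_iff M (by omega) (amb h) ((qsit h M hm).Q_le_H hq)).1 h1 v hv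

include h M hm in
theorem m_eq_two : m = 2 := by
  obtain ⟨q, hq, p, hp⟩ := exists_moved h M hm
  exact (qsit h M hm).eq_two hq hp

include h hm in
/-- All pairs of points `(i, x), (i, y)`, `x, y ≠ 0`, lie in `E`. -/
theorem pair_mem {p q : Pt k m} (h1 : p.1 = q.1) (hp : p.2 ≠ 0) (hq : q.2 ≠ 0) (hne : p ≠ q) {u : G}
    (hu : IsPair M p q u) : u ∈ zl (S : Subgroup G) P ⊓ o2 (CC (S : Subgroup G)) := by
  classical
  have hm1 : 1 ≤ m := by omega
  have qs := qsit h M hm
  have hA := amb h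
  obtain ⟨y, hy, a, ha⟩ := exists_moved h M hm
  have ha0 : a.2 ≠ 0 := fun h0 => ha (qs.fix_zero hy h0)
  -- one pair
  have hz : ((a.1, 0) : Pt k m) ≠ a := fun h0 => ha0 (congrArg Prod.snd h0).symm
  obtain ⟨v, hv, hv'⟩ := exists_pair M (p := (a.1, 0)) (q := a) rfl hz
  have hc1 : IsPair M a (rp M y a) (c v y) := by
    have hyV : y ∈ normalizer (zl (S : Subgroup G) P : Set G) := h.Q_norm_V hy
    refine ⟨?_, fun r => ?_⟩
    · have e : c v y = v * (y * v⁻¹ * y⁻¹) := by rw [c]; group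
      rw [e]
      exact mul_mem hv ((mem_normalizer_iff.1 hyV _).1 (inv_mem hv))
    · rw [qs.co_c_pair rfl ⟨hv, hv'⟩ hz hy]
      by_cases h2 : r = a
      · have h3 : r ≠ rp M y a := fun h3 => ha (h3.symm.trans h2)
        rw [if_pos h2, if_neg h3, if_pos (Or.inl h2), add_zero]
      · by_cases h3 : r = rp M y a
        · rw [if_neg h2, if_pos h3, if_pos (Or.inr h3), zero_add]
        · rw [if_neg h2, if_neg h3, if_neg (not_or.2 ⟨h2, h3⟩), add_zero]
  have hc2 : c v y ∈ o2 (CC (S : Subgroup G)) := by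
    have hvC := le_normalizer_o2 _ (h.V_le_CC hv)
    exact mul_mem ((mem_normalizer_iff.1 hvC _).1 hy) (inv_mem hy)
  -- conjugation
  obtain ⟨t, ht, htp⟩ := exists_T M hm1 hA S.isPGroup' (MinSimple.Basic.not_dvd_relIndex S h.S_le) ha0 hp
  have ht0 := T_le_H0 M hm1 hA ht
  set b := rp M t (rp M y a) with hb
  have hb1 : b.1 = p.1 := by
    rw [hb, ← htp]
    exact (rp_fst_eq M (hA.TH ht)).2 (qs.fst_eq hy a)
  have hb0 : b.2 ≠ 0 := fun h0 => qs.snd_ne hy ha0 ((ht0.2 _).1 h0)
  have hbp : b ≠ p := by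
    intro h2
    rw [hb, ← htp] at h2
    exact ha ((rp M t).injective h2)
  obtain ⟨g, hg, hg'⟩ := exists_swap0 M hm1 hA (hb1.trans h1) hb0 hq
  have hgt : g * t ∈ H0 M hm1 hA := mul_mem hg ht0
  have h3 := hc1.conj hA hgt.1
  have e1 : rp M (g * t) a = p := by
    rw [rp_mul M hm1 hA hg.1 (hA.TH ht), Equiv.Perm.mul_apply, htp, hg',
      Equiv.swap_apply_of_ne_of_ne (Ne.symm hbp) hne]
  have e2 : rp M (g * t) (rp M y a) = q := by
    rw [rp_mul M hm1 hA hg.1 (hA.TH ht), Equiv.Perm.mul_apply, ← hb, hg', Equiv.swap_apply_left]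
  rw [e1, e2] at h3
  rw [hu.unique h3]
  exact ⟨h3.1, qs.norm _ hgt _ hc2⟩

include h hm in
/-- Some pair `{(i, 0), a}` is not in `Q`. -/
theorem exists_v : ∃ a : Pt k m, a.2 ≠ 0 ∧ ∃ v, IsPair M (a.1, 0) a v ∧ v ∉ o2 (CC (S : Subgroup G)) := by
  by_contra hcon
  push Not at hcon
  apply h.one.not_le
  intro w hw
  refine mem_of_pairs M (Good := fun _ => True) (fun p q h1 hne _ _ u hu => ?_) hw fun _ _ => trivial
  by_cases hp : p.2 = 0
  · have hq : q.2 ≠ 0 := fun hq => hne (Prod.ext h1 (hp.trans hq.symm))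
    refine hcon q hq u ?_
    have e : p = (q.1, 0) := Prod.ext h1 hp
    rwa [← e]
  · by_cases hq : q.2 = 0
    · refine hcon p hp u ?_
      have e : q = (p.1, 0) := Prod.ext h1.symm hq
      rw [← e]
      exact hu.symm
    · exact (pair_mem h M hm h1 hp hq hne hu).2

/-- `w` is constant on the points `(j, x)`, `x ≠ 0`, of every block and zero at the points `(j, 0)`. -/
def Const (M : SymK (S : Subgroup G) P (zl (S : Subgroup G) P) ⊥ k m) (w : G) : Prop :=
  w ∈ zl (S : Subgroup G) P ∧ (∀ p : Pt k m, p.2 = 0 → co M w p = 0) ∧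
    ∀ p q : Pt k m, p.1 = q.1 → p.2 ≠ 0 → q.2 ≠ 0 → co M w p = co M w q

include h hm in
/-- `v ∉ O₂(C_G(w))` -/
theorem not_mem_o2 {a : Pt k m} (ha : a.2 ≠ 0) {v : G} (hv : IsPair M (a.1, 0) a v)
    (hvQ : v ∉ o2 (CC (S : Subgroup G))) {w : G} (hw : Const M w) : v ∉ o2 (centralizer ({w} : Set G)) := by
  have hz : ((a.1, 0) : Pt k m) ≠ a := fun h0 => ha (congrArg Prod.snd h0).symm
  obtain ⟨g, hg, hf, hX, -⟩ := h.exists_near hv.1 hvQ
  have hFQ : MulAut.conj g • (zl (S : Subgroup G) P ⊓ o2 (CC (S : Subgroup G))) ≤ o2 (CC (S : Subgroup G)) := by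
    intro y hy
    obtain ⟨x, hx, rfl⟩ := NOne.Frame.mem_conj'.1 hy
    exact (mem_normalizer_iff.1 (le_normalizer_o2 _ hg) x).1 hx.2
  have hwD := (qsit h M hm).const_mem_D (z := (a.1, 0)) (a := a) rfl rfl ha hv hf.near hFQ hf.ne
    (fun p q h1 h2 h3 h4 u hu => pair_mem h M hm h1 h2 h3 h4 hu) hw.1 hw.2.1 hw.2.2
  refine not_mem_of_frame hf.fr hX (o2_isPGroup _) (o2_isPGroup _) ?_
  refine le_trans ?_ (le_normalizer_o2 _)
  have h1 : NOne.Frame.X (V1 (zl (S : Subgroup G) P) (o2 (CC (S : Subgroup G))) v) g ≤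
      zl (S : Subgroup G) P ⊔ MulAut.conj g • zl (S : Subgroup G) P := by
    refine sup_le_sup (V1_le hv.1) ?_
    intro y hy
    obtain ⟨x, hx, rfl⟩ := NOne.Frame.mem_conj'.1 hy
    exact conj_mem_smul (V1_le hv.1 hx)
  intro x hx
  exact mem_centralizer_singleton_iff.2 (hf.cent x (h1 hx) w hwD)

end Cfsg.Agent.Omega.NO1.Sym

end

section


/-!
# N1, sums of even-subset modules: one block (project OMEGA, N1, `SymAll`)

`false_of_half` : there are no `k ≥ 2` blocks.  Input: `O₂(C_G(w)) ≤ S₀` for subgroups `Q ≤ S₀` of index 2 of `S` and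
involutions `w ∈ Z(S₀)` (`HalfQ.lean`).
-/

set_option autoImplicit false

namespace Cfsg.Agent.Omega.NO1.Sym

open Subgroup Cfsg Cfsg.Agent.ZN Cfsg.Agent.Omega.FFThm Cfsg.Agent.Omega.Half Cfsg.Agent.Omega.NO1
open Cfsg.Agent.Omega.NoFF.LinesPlug (CC)
open scoped Pointwise

universe u

/-- `O₂(C_G(w)) ≤ S₀` -/
def HalfStmt (G : Type u) [Group G] : Prop :=
  ∀ (S : Sylow 2 G) (So : Subgroup G), So ≤ (S : Subgroup G) → Nat.card (S : Subgroup G) = 2 * Nat.card So →
    o2 (CC (S : Subgroup G)) ≤ So → ∀ w ∈ So, w ^ 2 = 1 → w ≠ 1 → (∀ s ∈ So, s * w = w * s) →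
      o2 (centralizer ({w} : Set G)) ≤ So

variable {G : Type u} [Group G]

/-- A proper subgroup of a 2-group lies in a subgroup of index 2. -/
theorem exists_index_two [Finite G] {S A : Subgroup G} (hS : IsPGroup 2 S) (hA : A ≤ S) (hne : ¬ S ≤ A) :
    ∃ So : Subgroup G, A ≤ So ∧ So ≤ S ∧ Nat.card S = 2 * Nat.card So := by
  have : Fact (Nat.Prime 2) := ⟨Nat.prime_two⟩
  obtain ⟨n, hn⟩ := IsPGroup.iff_card.1 hS
  obtain ⟨a, ha⟩ := IsPGroup.iff_card.1 (hS.to_le hA)
  have hlt : a < n := by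
    have h1 : Nat.card A ∣ Nat.card S := card_dvd_of_le hA
    rw [hn, ha] at h1
    have h2 := (Nat.pow_dvd_pow_iff_le_right' (b := 0)).1 h1
    rcases Nat.lt_or_ge a n with h3 | h3
    · exact h3
    · exfalso
      have h4 : a = n := le_antisymm h2 h3
      apply hne
      have h5 : A = S := eq_of_le_of_card_ge hA (by rw [hn, ha, h4])
      rw [h5]
  have hA' : Nat.card (A.subgroupOf S) = 2 ^ a := by
    rw [Nat.card_congr (subgroupOfEquivOfLe hA).toEquiv, ha]
  obtain ⟨K, hK, hAK⟩ := Sylow.exists_subgroup_card_pow_prime_le (G := S) 2 (n := a) (m := n - 1)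
    (by rw [hn]; exact pow_dvd_pow 2 (by omega)) (A.subgroupOf S) hA' (by omega)
  refine ⟨K.map S.subtype, ?_, map_subtype_le K, ?_⟩
  · intro x hx
    exact ⟨⟨x, hA hx⟩, hAK hx, rfl⟩
  · rw [card_map_of_injective S.subtype_injective, hK, hn, ← pow_succ']
    congr 1
    omega

/-- Two elements outside a subgroup of index 2. -/
theorem inv_mul_mem [Finite G] {S So : Subgroup G} (hSo : So ≤ S) (hc : Nat.card S = 2 * Nat.card So) {a b : G}
    (ha : a ∈ S) (hb : b ∈ S) (ha' : a ∉ So) (hb' : b ∉ So) : a⁻¹ * b ∈ So := by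
  have h1 : (So.subgroupOf S).index = 2 := by
    have h2 := card_mul_index (So.subgroupOf S)
    rw [Nat.card_congr (subgroupOfEquivOfLe hSo).toEquiv, hc, mul_comm] at h2
    exact Nat.eq_of_mul_eq_mul_right Nat.card_pos h2
  have h2 := mul_mem_iff_of_index_two h1 (a := (⟨a, ha⟩ : S)⁻¹) (b := ⟨b, hb⟩)
  rw [inv_mem_iff] at h2
  have h3 := h2.mpr (iff_of_false (fun h => ha' (mem_subgroupOf.mp h))
    (fun h => hb' (mem_subgroupOf.mp h)))
  exact mem_subgroupOf.mp h3

variable [Finite G] {S : Sylow 2 G} {P : Subgroup G} (h : Cfg S P) {k m : ℕ}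
variable (M : SymK (S : Subgroup G) P (zl (S : Subgroup G) P) ⊥ k m) (hm : 2 ≤ m)

include h M hm in
/-- There are no `k ≥ 2` blocks. -/
theorem false_of_half (hH : HalfStmt G) (hk : 2 ≤ k) : False := by
  classical
  have hm1 : 1 ≤ m := by omega
  have hA := amb h
  have qs := qsit h M hm
  have h5 := five_le hm
  obtain ⟨a, ha, v, hv, hvQ⟩ := exists_v h M hm
  have hSP := h.S_le
  -- the stabiliser of the block of `a`
  let S1 : Subgroup G :=
    { carrier := {s | s ∈ (S : Subgroup G) ∧ ∀ p : Pt k m, (rp M s p).1 = a.1 ↔ p.1 = a.1}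
      mul_mem' := by
        rintro s t ⟨hs, h1⟩ ⟨ht, h2⟩
        refine ⟨mul_mem hs ht, fun p => ?_⟩
        rw [rp_mul M hm1 hA (hSP hs) (hSP ht), Equiv.Perm.mul_apply, h1, h2]
      one_mem' := ⟨one_mem _, fun p => by rw [rp_one M hm1 hA, Equiv.Perm.one_apply]⟩
      inv_mem' := by
        rintro s ⟨hs, h1⟩
        refine ⟨inv_mem hs, fun p => ?_⟩
        rw [rp_inv M hm1 hA (hSP hs), ← h1, apply_inv] }
  have mem_S1 : ∀ s, s ∈ S1 ↔ s ∈ (S : Subgroup G) ∧ (rp M s a).1 = a.1 := by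
    intro s
    constructor
    · rintro ⟨h1, h2⟩
      exact ⟨h1, (h2 a).2 rfl⟩
    · rintro ⟨h1, h2⟩
      refine ⟨h1, fun p => ?_⟩
      have h3 := rp_fst_eq M (hSP h1) (p := p) (q := a)
      rw [h2] at h3
      exact h3
  have hS1 : S1 ≤ (S : Subgroup G) := fun s hs => hs.1
  have hne : ¬ (S : Subgroup G) ≤ S1 := by
    intro hle
    obtain ⟨j, hj⟩ : ∃ j : Fin k, j ≠ a.1 := by
      have hc : ({a.1} : Finset (Fin k)).card < (Finset.univ : Finset (Fin k)).card := by
        rw [Finset.card_univ, Fintype.card_fin, Finset.card_singleton]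
        omega
      obtain ⟨x, -, hx⟩ := Finset.exists_mem_notMem_of_card_lt_card hc
      rw [Finset.mem_singleton] at hx
      exact ⟨x, hx⟩
    obtain ⟨t, ht, h1⟩ := rp_trans M hm1 hA a.1 j
    have h2 := ((mem_S1 t).1 (hle ht)).2
    exact hj ((h1 a.2).symm.trans h2)
  obtain ⟨So, h1o, hoS, hcard⟩ := exists_index_two S.isPGroup' hS1 hne
  -- the blocks of the orbit of `So`
  let J : Set (Fin k) := {j | ∃ s ∈ So, (rp M s a).1 = j}
  have haJ : a.1 ∈ J := ⟨1, one_mem _, by rw [rp_one M hm1 hA, Equiv.Perm.one_apply]⟩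
  have hJ : ∀ s ∈ So, ∀ p : Pt k m, (rp M s p).1 ∈ J ↔ p.1 ∈ J := by
    have key : ∀ s ∈ So, ∀ p : Pt k m, p.1 ∈ J → (rp M s p).1 ∈ J := by
      rintro s hs p ⟨t, ht, h1⟩
      refine ⟨s * t, mul_mem hs ht, ?_⟩
      rw [rp_mul M hm1 hA (hSP (hoS hs)) (hSP (hoS ht)), Equiv.Perm.mul_apply]
      exact (rp_fst_eq M (hSP (hoS hs))).2 h1
    intro s hs p
    refine ⟨fun h1 => ?_, key s hs p⟩
    have h2 := key s⁻¹ (inv_mem hs) _ h1
    rwa [rp_inv M hm1 hA (hSP (hoS hs)), inv_apply] at h2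
  obtain ⟨j0, hj0⟩ : ∃ j, j ∉ J := by
    by_contra hcon
    push Not at hcon
    apply hne
    obtain ⟨t, ht, htS⟩ : ∃ t ∈ (S : Subgroup G), t ∉ So := by
      by_contra hc
      push Not at hc
      have h1 : (S : Subgroup G) = So := le_antisymm hc hoS
      have h2 : Nat.card So = 2 * Nat.card So := by rw [← hcard, h1]
      have h3 : 0 < Nat.card So := Nat.card_pos
      omega
    obtain ⟨s, hs, h1⟩ := hcon (rp M t a).1
    exfalso
    apply htS
    have h2 : s⁻¹ * t ∈ S1 := by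
      refine (mem_S1 _).2 ⟨mul_mem (inv_mem (hoS hs)) ht, ?_⟩
      rw [rp_mul M hm1 hA (hSP (inv_mem (hoS hs))) (hSP ht), Equiv.Perm.mul_apply]
      have h3 : (rp M s⁻¹ (rp M t a)).1 = (rp M s⁻¹ (rp M s a)).1 :=
        (rp_fst_eq M (hSP (inv_mem (hoS hs)))).2 h1.symm
      rw [h3, rp_inv M hm1 hA (hSP (hoS hs)), inv_apply]
    have h3 := mul_mem hs (h1o h2)
    rwa [mul_inv_cancel_left] at h3
  -- the vector `w`
  obtain ⟨w, hwV, hw⟩ := exists_co M (fun p => if p.1 ∈ J then 0 else if p.2 = 0 then 0 else 1) (by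
    intro i
    by_cases hi : i ∈ J
    · simp only [if_pos hi, Finset.sum_const_zero]
    · simp only [if_neg hi]
      rw [← Finset.add_sum_erase _ _ (Finset.mem_univ (0 : Fin (2 ^ m + 1))), if_pos rfl, zero_add,
        Finset.sum_congr rfl fun x hx => if_neg (Finset.ne_of_mem_erase hx), Finset.sum_const,
        Finset.card_erase_of_mem (Finset.mem_univ _), Finset.card_univ, Fintype.card_fin]
      have h8 : 2 ^ m + 1 - 1 = 2 * 2 ^ (m - 1) := by
        rw [Nat.add_sub_cancel, ← pow_succ']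
        congr 1
        omega
      rw [h8, mul_nsmul, two_nsmul, CharTwo.add_self_eq_zero, nsmul_zero])
  have hconst : Const M w := by
    refine ⟨hwV, fun p hp => ?_, fun p q h1 h2 h3 => ?_⟩
    · rw [hw]
      simp only [hp, if_true, ite_self]
    · rw [hw, hw, h1, if_neg h2, if_neg h3]
  have hw1 : w ≠ 1 := by
    intro h1
    have h2 := hw (j0, Fin.last (2 ^ m))
    rw [h1, co_one, if_neg hj0, if_neg] at h2
    · exact zero_ne_one h2
    · intro h0
      have h6 : (Fin.last (2 ^ m) : Fin (2 ^ m + 1)).val = 2 ^ m := Fin.val_last _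
      have h7 := congrArg Fin.val h0
      rw [Fin.val_zero] at h7
      have h8 : (Fin.last (2 ^ m) : Fin (2 ^ m + 1)).val = 0 := h7
      omega
  have hw2 : w ^ 2 = 1 := hA.sq w hwV
  -- elements of `P` preserving the coordinates of `w` centralise `w`
  have hcent : ∀ g ∈ P, (∀ p : Pt k m, co M w (rp M g p) = co M w p) → g * w = w * g := by
    intro g hg h1
    have h2 : g * w * g⁻¹ = w := by
      refine ext_co M (hA.conj_mem hg hwV) hwV fun p => ?_
      obtain ⟨r, rfl⟩ := (rp M g).surjective p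
      rw [co_rp M hg hwV, h1]
    exact mul_inv_eq_iff_eq_mul.1 h2
  have hSow : ∀ s ∈ So, s * w = w * s := by
    intro s hs
    refine hcent s (hSP (hoS hs)) fun p => ?_
    have h2 := hJ s hs p
    have h3 : (rp M s p).2 = 0 ↔ p.2 = 0 := (T_le_H0 M hm1 hA (hoS hs)).2 p
    rw [hw, hw]
    simp only [h2, h3]
  have hwSo : w ∈ So := by
    refine h1o ((mem_S1 w).2 ⟨hA.VT hwV, ?_⟩)
    have h2 : rp M w = 1 := (rp_eq_one_iff M hm1 hA (hSP (hA.VT hwV))).2 fun u hu => hA.comm w hwV u hu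
    rw [h2, Equiv.Perm.one_apply]
  have hQSo : o2 (CC (S : Subgroup G)) ≤ So := fun q hq => h1o ((mem_S1 q).2 ⟨qs.le hq, qs.fst_eq hq a⟩)
  have hR := hH S So hoS hcard hQSo w hwSo hw2 hw1 hSow
  set R := o2 (centralizer ({w} : Set G)) with hRdef
  have hvR : v ∉ R := not_mem_o2 h M hm ha hv hvQ hconst
  have hnR : ∀ g ∈ centralizer ({w} : Set G), ∀ x ∈ R, g * x * g⁻¹ ∈ R := fun g hg x hx =>
    (mem_normalizer_iff.1 (le_normalizer_o2 _ hg) x).1 hx
  have hVc : zl (S : Subgroup G) P ≤ centralizer ({w} : Set G) := fun x hx =>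
    mem_centralizer_singleton_iff.2 (hA.comm x hx w hwV)
  -- a pair in a block of `J` is not in `R`
  have hpair : ∀ p q : Pt k m, p.1 = q.1 → p.1 ∈ J → p ≠ q → ∀ u, IsPair M p q u → u ∉ R := by
    -- swaps in a block of `J` centralise `w`
    have hsw : ∀ p q : Pt k m, p.1 = q.1 → p.1 ∈ J → ∃ g ∈ P, g ∈ centralizer ({w} : Set G) ∧
        rp M g = Equiv.swap p q := by
      intro p q h1 h2
      obtain ⟨g, hg, h3⟩ := exists_swap M hm1 hA h1
      refine ⟨g, hg, mem_centralizer_singleton_iff.2 (hcent g hg fun r => ?_), h3⟩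
      rw [h3]
      by_cases hr1 : r = p
      · rw [hr1, Equiv.swap_apply_left, hw, hw, if_pos h2, if_pos (h1 ▸ h2)]
      · by_cases hr2 : r = q
        · rw [hr2, Equiv.swap_apply_right, hw, hw, if_pos h2, if_pos (h1 ▸ h2)]
        · rw [Equiv.swap_apply_of_ne_of_ne hr1 hr2]
    -- first in the block of `a`
    have h0 : ∀ p q : Pt k m, p.1 = a.1 → q.1 = a.1 → p ≠ q → ∀ u, IsPair M p q u → u ∉ R := by
      intro p q hp hq hne' u hu huR
      apply hvR
      have hz : ((a.1, 0) : Pt k m) ≠ a := fun h0 => ha (congrArg Prod.snd h0).symm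
      -- move `p` to `(a.1, 0)`
      obtain ⟨g1, hg1, hg1c, e1⟩ := hsw p (a.1, 0) hp (hp ▸ haJ)
      have k1 := hu.conj hA hg1
      rw [e1, Equiv.swap_apply_left] at k1
      set q' := Equiv.swap p ((a.1, 0) : Pt k m) q with hq'
      have hq'1 : q'.1 = a.1 := by
        rw [hq']
        by_cases h6 : q = (a.1, 0)
        · rw [h6, Equiv.swap_apply_right, hp]
        · rw [Equiv.swap_apply_of_ne_of_ne (Ne.symm hne') h6, hq]
      have hq'0 : q' ≠ (a.1, 0) := by
        intro h6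
        have h7 : q' = Equiv.swap p ((a.1, 0) : Pt k m) p := by rw [h6, Equiv.swap_apply_left]
        exact hne' ((Equiv.swap p ((a.1, 0) : Pt k m)).injective h7).symm
      obtain ⟨g2, hg2, hg2c, e2⟩ := hsw q' a hq'1 (hq'1 ▸ haJ)
      have k2 := k1.conj hA hg2
      rw [e2, Equiv.swap_apply_left, Equiv.swap_apply_of_ne_of_ne (Ne.symm hq'0) hz] at k2
      rw [hv.unique k2]
      exact hnR g2 hg2c _ (hnR g1 hg1c _ huR)
    rintro p q h1 ⟨s, hs, h2⟩ hne' u hu huR
    have hsP := hSP (hoS hs)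
    have hsc : s⁻¹ ∈ centralizer ({w} : Set G) := inv_mem (mem_centralizer_singleton_iff.2 (hSow s hs))
    have k1 := hu.conj hA (inv_mem hsP)
    have e1 : (rp M s⁻¹ p).1 = a.1 := by
      have h3 : (rp M s⁻¹ p).1 = (rp M s⁻¹ (rp M s a)).1 := (rp_fst_eq M (inv_mem hsP)).2 h2.symm
      rw [h3, rp_inv M hm1 hA hsP, inv_apply]
    have e2 : (rp M s⁻¹ q).1 = a.1 := by
      rw [← e1]
      exact ((rp_fst_eq M (inv_mem hsP)).2 h1).symm
    exact h0 _ _ e1 e2 (fun h3 => hne' ((rp M s⁻¹).injective h3)) _ k1 (hnR _ hsc _ huR)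
  -- `R` contains no vector with support in `J`
  have hVJ : ∀ x ∈ zl (S : Subgroup G) P, (∀ p : Pt k m, p.1 ∉ J → co M x p = 0) → x ∈ R → x = 1 := by
    intro x hx hxJ hxR
    by_contra hx1
    obtain ⟨p, hp⟩ : ∃ p, co M x p ≠ 0 := by
      by_contra hcon
      push Not at hcon
      exact hx1 (eq_one_of_co M hx hcon)
    have hpJ : p.1 ∈ J := by
      by_contra hc
      exact hp (hxJ p hc)
    obtain ⟨y, hy⟩ : ∃ y, co M x (p.1, y) = 0 := by
      by_contra hcon
      push Not at hcon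
      have h6 := sum_co M hx p.1
      rw [Finset.sum_congr rfl fun y _ => (ne_zero_iff _).1 (hcon y), Finset.sum_const, Finset.card_univ,
        Fintype.card_fin, nsmul_eq_mul, mul_one] at h6
      have h8 : 2 ^ m + 1 = 2 * 2 ^ (m - 1) + 1 := by
        rw [← pow_succ']
        congr 2
        omega
      rw [h8, Nat.cast_add, Nat.cast_mul, Nat.cast_one] at h6
      have h9 : ((2 : ℕ) : ZMod 2) = 0 := by decide
      rw [h9, zero_mul, zero_add] at h6
      exact one_ne_zero h6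
    set q : Pt k m := (p.1, y) with hq
    have hpq : p ≠ q := fun h6 => hp (by rw [h6]; exact hy)
    obtain ⟨g, hg, h7⟩ := exists_swap M hm1 hA (p := p) (q := q) rfl
    have hgc : g ∈ centralizer ({w} : Set G) := by
      refine mem_centralizer_singleton_iff.2 (hcent g hg fun r => ?_)
      rw [h7]
      by_cases hr1 : r = p
      · rw [hr1, Equiv.swap_apply_left, hw, hw, if_pos hpJ, if_pos hpJ]
      · by_cases hr2 : r = q
        · rw [hr2, Equiv.swap_apply_right, hw, hw, if_pos hpJ, if_pos hpJ]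
        · rw [Equiv.swap_apply_of_ne_of_ne hr1 hr2]
    have hx' : g * x * g⁻¹ ∈ zl (S : Subgroup G) P := hA.conj_mem hg hx
    have hpr : IsPair M p q (g * x * g⁻¹ * x⁻¹) := by
      refine ⟨mul_mem hx' (inv_mem hx), fun r => ?_⟩
      rw [co_mul M hx' (inv_mem hx), co_inv M hx]
      have h8 : co M (g * x * g⁻¹) r = co M x (Equiv.swap p q r) := by
        have := co_rp M hg hx (Equiv.swap p q r)
        rwa [h7, Equiv.swap_apply_self] at this
      rw [h8]
      by_cases hr1 : r = p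
      · rw [hr1, Equiv.swap_apply_left, if_pos (Or.inl rfl), (ne_zero_iff _).1 hp]
        rw [show co M x q = 0 from hy, zero_add]
      · by_cases hr2 : r = q
        · rw [hr2, Equiv.swap_apply_right, if_pos (Or.inr rfl), (ne_zero_iff _).1 hp,
            show co M x q = 0 from hy, add_zero]
        · rw [Equiv.swap_apply_of_ne_of_ne hr1 hr2, if_neg (not_or.2 ⟨hr1, hr2⟩), CharTwo.add_self_eq_zero]
    exact hpair p q rfl hpJ hpq _ hpr (mul_mem (hnR g hgc x hxR) (inv_mem hxR))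
  -- the end
  have hvV := hv.1
  have hvJ : ∀ p : Pt k m, p.1 ∉ J → co M v p = 0 := by
    intro p hp
    rw [hv.2, if_neg]
    rintro (rfl | rfl)
    · exact hp haJ
    · exact hp haJ
  apply hvR
  refine MinSimple.Basic.char2_centralizer h.ctx.char2 hw2 hw1 ⟨hVc hvV, mem_centralizer_iff.2 fun r hr => ?_⟩
  have hrSo : r ∈ So := hR hr
  have hrP : r ∈ P := hSP (hoS hrSo)
  have hr' : r * v * r⁻¹ ∈ zl (S : Subgroup G) P := hA.conj_mem hrP hvV
  have h6 : r * v * r⁻¹ * v⁻¹ = 1 := by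
    refine hVJ _ (mul_mem hr' (inv_mem hvV)) (fun p hp => ?_) ?_
    · rw [co_mul M hr' (inv_mem hvV), co_inv M hvV, hvJ p hp, add_zero]
      obtain ⟨s, rfl⟩ := (rp M r).surjective p
      rw [co_rp M hrP hvV]
      exact hvJ s fun hs => hp ((hJ r hrSo s).2 hs)
    · have e : r * v * r⁻¹ * v⁻¹ = r * (v * r⁻¹ * v⁻¹) := by group
      rw [e]
      exact mul_mem hr (hnR v (hVc hvV) _ (inv_mem hr))
  have h7 : r * v * r⁻¹ = v := mul_inv_eq_one.1 h6
  exact mul_inv_eq_iff_eq_mul.1 h7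

end Cfsg.Agent.Omega.NO1.Sym

end

end

-- merged: Cfsg.Agent.Mrg.Omega.NO1.Sym.EndOne
section

section


/-!
# `SymAll`, one block, degree 5: the type `Minus2` (project OMEGA, N1)

`minus2`: `V_P` the even-subset module of `S₅`, `C_V(O²(P)) = 1`; `z i` is the complement of the point `i`.
-/

set_option autoImplicit false

namespace Cfsg.Agent.Omega.NO1.Sym.EndOne

open Subgroup Cfsg Cfsg.Agent.ZN Cfsg.Agent.Omega.FFThm Cfsg.Agent.Omega.S5.Def
open Cfsg.Agent.Omega.S5.Of (lab evenSet fix0)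

universe u

variable {G : Type u} [Group G] [Finite G]

theorem vec_eq (x : Fin 5 → ZMod 2) : x = x 0 • Pi.single 0 1 + x 1 • Pi.single 1 1 + x 2 • Pi.single 2 1 +
    x 3 • Pi.single 3 1 + x 4 • Pi.single 4 1 := by
  have h1 : x = ∑ i, x i • (Pi.single i 1 : Fin 5 → ZMod 2) := by
    funext j
    simp [Finset.sum_apply, Pi.single_apply]
  conv_lhs => rw [h1]
  rw [Fin.sum_univ_five]

omit [Finite G] in
theorem gen_eq {V P : Subgroup G} {ε : (Fin 5 → ZMod 2) → G} (h : EvenSet 5 V P ε) :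
    closure (Set.range fun i => ε (Pi.single i 1)) = V := by
  apply le_antisymm
  · rw [closure_le]
    rintro _ ⟨i, rfl⟩
    exact h.mem _
  · intro v hv
    obtain ⟨x, rfl⟩ := h.surj v hv
    have key : ∀ (a : ZMod 2) (i : Fin 5), ε (a • Pi.single i 1) ∈
        closure (Set.range fun i => ε (Pi.single i 1)) := by
      intro a i
      have ha : a = 0 ∨ a = 1 := by revert a; decide
      rcases ha with rfl | rfl
      · rw [zero_smul, h.zero]; exact one_mem _
      · rw [one_smul]; exact subset_closure ⟨i, rfl⟩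
    rw [vec_eq x, h.add, h.add, h.add, h.add]
    exact mul_mem (mul_mem (mul_mem (mul_mem (key _ _) (key _ _)) (key _ _)) (key _ _)) (key _ _)

theorem of_evenSet {S : Sylow 2 G} {P : Subgroup G} (h : Cfg S P) {ε : (Fin 5 → ZMod 2) → G}
    (E : EvenSet 5 (zl (S : Subgroup G) P) P ε) (h0 : S5.Syl.Fix0 ε (S : Subgroup G)) :
    Minus2 (S : Subgroup G) P fun i => ε (Pi.single i 1) where
  inj i j hij := E.single_inj (by norm_num) hij
  ne_one i := E.single_ne_one (by norm_num) i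
  sq i := E.sq _
  comm i j := E.comm _ _
  prod := by
    rw [← E.add, ← E.add, ← E.add, ← E.add]
    refine (E.ker _).2 (Or.inr ?_)
    decide
  gen := gen_eq E
  Z := by
    have hfix : ∀ v ∈ zc (S : Subgroup G), v = 1 ∨ v = ε (Pi.single 0 1) := by
      intro v hv
      refine S5.Syl.fixed (m := 2) (by norm_num) E h.S_le (MinSimple.Basic.not_dvd_relIndex S h.S_le) h0
        (h.Z_le_V hv) fun s hs => ?_
      have h1 := MinSimple.VModule.le_centralizer_zc (S : Subgroup G) hs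
      exact ((mem_centralizer_iff.1 h1) v hv).symm
    have hz : ε (Pi.single 0 1) ∈ zc (S : Subgroup G) := by
      by_contra hcon
      refine MinSimple.Basic.zc_ne_bot S.isPGroup' (h.ctx.sylow_ne_bot S) ?_
      rw [eq_bot_iff]
      intro v hv
      rcases hfix v hv with h1 | h1
      · exact mem_bot.2 h1
      · exact absurd (h1 ▸ hv) hcon
    apply le_antisymm
    · intro v hv
      rcases hfix v hv with h1 | h1
      · rw [h1]
        exact one_mem _
      · rw [h1]
        exact mem_zpowers _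
    · rw [zpowers_le]
      exact hz
  perm m hm := by
    obtain ⟨σ, hσ⟩ := E.perm m hm
    exact ⟨σ, fun i => hσ.single i⟩
  alt σ _ := by
    obtain ⟨m, hm, hσ⟩ := E.full σ
    exact ⟨m, hm, fun i => hσ.single i⟩

/-- **`SymAll`, `k = 1`, `m = 2`.** -/
theorem minus2 {S : Sylow 2 G} {P : Subgroup G} (h : Cfg S P)
    (M : SymK (S : Subgroup G) P (zl (S : Subgroup G) P) (FrameFF.cv (S : Subgroup G) P) 1 2) :
    ∃ z : Fin 5 → G, Minus2 (S : Subgroup G) P z := by
  have hD : FrameFF.cv (S : Subgroup G) P = ⊥ := h.one.cen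
  have hH : P ≤ normalizer (zl (S : Subgroup G) P : Set G) := Cfg.P_norm_V S P
  exact ⟨_, of_evenSet h (evenSet M hD (by norm_num) hH) (fix0 M hD (by norm_num) hH h.S_le)⟩

end Cfsg.Agent.Omega.NO1.Sym.EndOne

end

section


/-!
# `SymAll`: `V_P` a sum of even-subset modules (project OMEGA, N1, text #14697)

`symAll : NO1.SymAll`: then `k = 1`, `m = 2` and `V_P = O₄⁻(2)`.
-/

set_option autoImplicit false

namespace Cfsg.Agent.Omega.NO1.Sym

open Subgroup Cfsg Cfsg.Agent.ZN Cfsg.Agent.Omega.MinPar Cfsg.Agent.Omega.Frame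
open Cfsg.Agent.Omega.NoFF.LinesPlug (CC)
open Cfsg.Agent.Omega.FFThm (SymK)
open Cfsg.Agent.Omega.FrameFF (cv)

universe u

/-- **`SymAll`** (text #14697). -/
theorem symAll : NO1.SymAll.{u} := by
  intro G _ _ S P h k m hk hm M
  have e : cv (S : Subgroup G) P = ⊥ := h.one.cen
  have M' : SymK (S : Subgroup G) P (zl (S : Subgroup G) P) ⊥ k m := e ▸ M
  have hH : HalfStmt G := fun T To hT hc hQ w hw hw2 hw1 hcen =>
    HalfQ.o2_le_of_index_two T hT hc hQ hw hw2 hw1 hcen
  have hm2 : m = 2 := m_eq_two h M' hm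
  subst hm2
  rcases Nat.lt_or_ge 1 k with hk1 | hk1
  · exact (false_of_half h M' hm hH hk1).elim
  · have hk2 : k = 1 := by omega
    subst hk2
    obtain ⟨z, hz⟩ := EndOne.minus2 h M
    exact Ty.minus2 z hz

end Cfsg.Agent.Omega.NO1.Sym

end

end
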